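-- Team project CHO (S1082: D4(K) = POmega8+(K), S1083: B2(K) = POmega5(K)): interface (helper99).
-- GENERATED tables (tmp script; checked in exact integer arithmetic against the Prelude data):
-- root vectors N_r, Cartan elements h_i of the orthogonal Lie algebra in the natural module, in the
-- order of the Prelude root indices, with the signs that make conjugation by
-- E_r(t) = 1 + t N_r + t^2 M_r act on the span of (h_i; N_r) through the matrices `D.xMat K r t`.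
import Mathlib
import Cfsg.Prelude.Def_Chevalley
import Cfsg.Prelude.Def_ChevD4
import Cfsg.Prelude.Def_ChevB2
import Cfsg.Prelude.Def_Classical
import Cfsg.Prelude.Def_GeometricClasses

set_option autoImplicit false
open scoped MatrixGroups
open Matrix

namespace Cfsg.Agent.Lib.Helper99.CHO

universe u

/-- Entry `(a, c)` of the `r`-th matrix of an integer table. -/
def tab3 (L : List (List (List ℤ))) (r a c : ℕ) : ℤ := ((L.getD r []).getD a []).getD c 0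

/-- Position of an index of `Fin 4 ⊕ Fin 4` in the order `e1 e2 e3 e4 f1 f2 f3 f4`
(`e_i = inl (i-1)`, `f_i = inr (i-1)`; `quadFormPlus 4 K v = Σ v(e_i) v(f_i)`). -/
def ix8 : Fin 4 ⊕ Fin 4 → ℕ
  | Sum.inl i => i.val
  | Sum.inr i => 4 + i.val

/-- Position of an index of `Unit ⊕ (Fin 2 ⊕ Fin 2)` in the order `e0 e1 e2 f1 f2`
(`e0 = inl ()`, `e_i = inr (inl (i-1))`, `f_i = inr (inr (i-1))`;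
`quadFormOdd 2 K v = v(e0)^2 + Σ v(e_i) v(f_i)`). -/
def ix5 : Unit ⊕ (Fin 2 ⊕ Fin 2) → ℕ
  | Sum.inl _ => 0
  | Sum.inr (Sum.inl i) => 1 + i.val
  | Sum.inr (Sum.inr i) => 3 + i.val

/-! ## Type D4

Roots (Prelude index `r`; `eps` = coordinates in `ε_1..ε_4`; `E[x,y]` = elementary matrix with
entry 1 in row `x`, column `y`, i.e. the map `y ↦ x`):

```
  r =  0 : eps (-1, -1, 0, 0) : N = -1*E[f1,e2] +1*E[f2,e1]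
  r =  1 : eps (-1, 0, -1, 0) : N = -1*E[f1,e3] +1*E[f3,e1]
  r =  2 : eps (-1, 0, 0, 1) : N = +1*E[e4,e1] -1*E[f1,f4]
  r =  3 : eps (-1, 0, 0, -1) : N = -1*E[f1,e4] +1*E[f4,e1]
  r =  4 : eps (-1, 0, 1, 0) : N = -1*E[e3,e1] +1*E[f1,f3]
  r =  5 : eps (-1, 1, 0, 0) : N = +1*E[e2,e1] -1*E[f1,f2]
  r =  6 : eps (0, -1, -1, 0) : N = +1*E[f2,e3] -1*E[f3,e2]
  r =  7 : eps (0, -1, 0, 1) : N = -1*E[e4,e2] +1*E[f2,f4]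
  r =  8 : eps (0, -1, 0, -1) : N = +1*E[f2,e4] -1*E[f4,e2]
  r =  9 : eps (0, -1, 1, 0) : N = +1*E[e3,e2] -1*E[f2,f3]
  r = 10 : eps (0, 0, -1, 1) : N = +1*E[e4,e3] -1*E[f3,f4]
  r = 11 : eps (0, 0, -1, -1) : N = -1*E[f3,e4] +1*E[f4,e3]
  r = 12 : eps (0, 0, 1, 1) : N = +1*E[e3,f4] -1*E[e4,f3]
  r = 13 : eps (0, 0, 1, -1) : N = +1*E[e3,e4] -1*E[f4,f3]
  r = 14 : eps (0, 1, -1, 0) : N = +1*E[e2,e3] -1*E[f3,f2]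
  r = 15 : eps (0, 1, 0, 1) : N = -1*E[e2,f4] +1*E[e4,f2]
  r = 16 : eps (0, 1, 0, -1) : N = -1*E[e2,e4] +1*E[f4,f2]
  r = 17 : eps (0, 1, 1, 0) : N = -1*E[e2,f3] +1*E[e3,f2]
  r = 18 : eps (1, -1, 0, 0) : N = +1*E[e1,e2] -1*E[f2,f1]
  r = 19 : eps (1, 0, -1, 0) : N = -1*E[e1,e3] +1*E[f3,f1]
  r = 20 : eps (1, 0, 0, 1) : N = +1*E[e1,f4] -1*E[e4,f1]
  r = 21 : eps (1, 0, 0, -1) : N = +1*E[e1,e4] -1*E[f4,f1]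
  r = 22 : eps (1, 0, 1, 0) : N = +1*E[e1,f3] -1*E[e3,f1]
  r = 23 : eps (1, 1, 0, 0) : N = +1*E[e1,f2] -1*E[e2,f1]
  h_0 = diag(1, -1, 0, 0, -1, 1, 0, 0)
  h_1 = diag(0, 1, -1, 0, 0, -1, 1, 0)
  h_2 = diag(0, 0, 1, -1, 0, 0, -1, 1)
  h_3 = diag(0, 0, 1, 1, 0, 0, -1, -1)
```
-/

/-- Root vectors `N_r` of type D4 (24 integer 8 × 8 matrices, rows = images). -/
def nListD4 : List (List (List ℤ)) :=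
  [[[0, 0, 0, 0, 0, 0, 0, 0], [0, 0, 0, 0, 0, 0, 0, 0], [0, 0, 0, 0, 0, 0, 0, 0], [0, 0, 0, 0, 0, 0, 0, 0], [0, -1, 0, 0, 0, 0, 0, 0], [1, 0, 0, 0, 0, 0, 0, 0], [0, 0, 0, 0, 0, 0, 0, 0], [0, 0, 0, 0, 0, 0, 0, 0]],
   [[0, 0, 0, 0, 0, 0, 0, 0], [0, 0, 0, 0, 0, 0, 0, 0], [0, 0, 0, 0, 0, 0, 0, 0], [0, 0, 0, 0, 0, 0, 0, 0], [0, 0, -1, 0, 0, 0, 0, 0], [0, 0, 0, 0, 0, 0, 0, 0], [1, 0, 0, 0, 0, 0, 0, 0], [0, 0, 0, 0, 0, 0, 0, 0]],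
   [[0, 0, 0, 0, 0, 0, 0, 0], [0, 0, 0, 0, 0, 0, 0, 0], [0, 0, 0, 0, 0, 0, 0, 0], [1, 0, 0, 0, 0, 0, 0, 0], [0, 0, 0, 0, 0, 0, 0, -1], [0, 0, 0, 0, 0, 0, 0, 0], [0, 0, 0, 0, 0, 0, 0, 0], [0, 0, 0, 0, 0, 0, 0, 0]],
   [[0, 0, 0, 0, 0, 0, 0, 0], [0, 0, 0, 0, 0, 0, 0, 0], [0, 0, 0, 0, 0, 0, 0, 0], [0, 0, 0, 0, 0, 0, 0, 0], [0, 0, 0, -1, 0, 0, 0, 0], [0, 0, 0, 0, 0, 0, 0, 0], [0, 0, 0, 0, 0, 0, 0, 0], [1, 0, 0, 0, 0, 0, 0, 0]],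
   [[0, 0, 0, 0, 0, 0, 0, 0], [0, 0, 0, 0, 0, 0, 0, 0], [-1, 0, 0, 0, 0, 0, 0, 0], [0, 0, 0, 0, 0, 0, 0, 0], [0, 0, 0, 0, 0, 0, 1, 0], [0, 0, 0, 0, 0, 0, 0, 0], [0, 0, 0, 0, 0, 0, 0, 0], [0, 0, 0, 0, 0, 0, 0, 0]],
   [[0, 0, 0, 0, 0, 0, 0, 0], [1, 0, 0, 0, 0, 0, 0, 0], [0, 0, 0, 0, 0, 0, 0, 0], [0, 0, 0, 0, 0, 0, 0, 0], [0, 0, 0, 0, 0, -1, 0, 0], [0, 0, 0, 0, 0, 0, 0, 0], [0, 0, 0, 0, 0, 0, 0, 0], [0, 0, 0, 0, 0, 0, 0, 0]],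
   [[0, 0, 0, 0, 0, 0, 0, 0], [0, 0, 0, 0, 0, 0, 0, 0], [0, 0, 0, 0, 0, 0, 0, 0], [0, 0, 0, 0, 0, 0, 0, 0], [0, 0, 0, 0, 0, 0, 0, 0], [0, 0, 1, 0, 0, 0, 0, 0], [0, -1, 0, 0, 0, 0, 0, 0], [0, 0, 0, 0, 0, 0, 0, 0]],
   [[0, 0, 0, 0, 0, 0, 0, 0], [0, 0, 0, 0, 0, 0, 0, 0], [0, 0, 0, 0, 0, 0, 0, 0], [0, -1, 0, 0, 0, 0, 0, 0], [0, 0, 0, 0, 0, 0, 0, 0], [0, 0, 0, 0, 0, 0, 0, 1], [0, 0, 0, 0, 0, 0, 0, 0], [0, 0, 0, 0, 0, 0, 0, 0]],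
   [[0, 0, 0, 0, 0, 0, 0, 0], [0, 0, 0, 0, 0, 0, 0, 0], [0, 0, 0, 0, 0, 0, 0, 0], [0, 0, 0, 0, 0, 0, 0, 0], [0, 0, 0, 0, 0, 0, 0, 0], [0, 0, 0, 1, 0, 0, 0, 0], [0, 0, 0, 0, 0, 0, 0, 0], [0, -1, 0, 0, 0, 0, 0, 0]],
   [[0, 0, 0, 0, 0, 0, 0, 0], [0, 0, 0, 0, 0, 0, 0, 0], [0, 1, 0, 0, 0, 0, 0, 0], [0, 0, 0, 0, 0, 0, 0, 0], [0, 0, 0, 0, 0, 0, 0, 0], [0, 0, 0, 0, 0, 0, -1, 0], [0, 0, 0, 0, 0, 0, 0, 0], [0, 0, 0, 0, 0, 0, 0, 0]],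
   [[0, 0, 0, 0, 0, 0, 0, 0], [0, 0, 0, 0, 0, 0, 0, 0], [0, 0, 0, 0, 0, 0, 0, 0], [0, 0, 1, 0, 0, 0, 0, 0], [0, 0, 0, 0, 0, 0, 0, 0], [0, 0, 0, 0, 0, 0, 0, 0], [0, 0, 0, 0, 0, 0, 0, -1], [0, 0, 0, 0, 0, 0, 0, 0]],
   [[0, 0, 0, 0, 0, 0, 0, 0], [0, 0, 0, 0, 0, 0, 0, 0], [0, 0, 0, 0, 0, 0, 0, 0], [0, 0, 0, 0, 0, 0, 0, 0], [0, 0, 0, 0, 0, 0, 0, 0], [0, 0, 0, 0, 0, 0, 0, 0], [0, 0, 0, -1, 0, 0, 0, 0], [0, 0, 1, 0, 0, 0, 0, 0]],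
   [[0, 0, 0, 0, 0, 0, 0, 0], [0, 0, 0, 0, 0, 0, 0, 0], [0, 0, 0, 0, 0, 0, 0, 1], [0, 0, 0, 0, 0, 0, -1, 0], [0, 0, 0, 0, 0, 0, 0, 0], [0, 0, 0, 0, 0, 0, 0, 0], [0, 0, 0, 0, 0, 0, 0, 0], [0, 0, 0, 0, 0, 0, 0, 0]],
   [[0, 0, 0, 0, 0, 0, 0, 0], [0, 0, 0, 0, 0, 0, 0, 0], [0, 0, 0, 1, 0, 0, 0, 0], [0, 0, 0, 0, 0, 0, 0, 0], [0, 0, 0, 0, 0, 0, 0, 0], [0, 0, 0, 0, 0, 0, 0, 0], [0, 0, 0, 0, 0, 0, 0, 0], [0, 0, 0, 0, 0, 0, -1, 0]],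
   [[0, 0, 0, 0, 0, 0, 0, 0], [0, 0, 1, 0, 0, 0, 0, 0], [0, 0, 0, 0, 0, 0, 0, 0], [0, 0, 0, 0, 0, 0, 0, 0], [0, 0, 0, 0, 0, 0, 0, 0], [0, 0, 0, 0, 0, 0, 0, 0], [0, 0, 0, 0, 0, -1, 0, 0], [0, 0, 0, 0, 0, 0, 0, 0]],
   [[0, 0, 0, 0, 0, 0, 0, 0], [0, 0, 0, 0, 0, 0, 0, -1], [0, 0, 0, 0, 0, 0, 0, 0], [0, 0, 0, 0, 0, 1, 0, 0], [0, 0, 0, 0, 0, 0, 0, 0], [0, 0, 0, 0, 0, 0, 0, 0], [0, 0, 0, 0, 0, 0, 0, 0], [0, 0, 0, 0, 0, 0, 0, 0]],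
   [[0, 0, 0, 0, 0, 0, 0, 0], [0, 0, 0, -1, 0, 0, 0, 0], [0, 0, 0, 0, 0, 0, 0, 0], [0, 0, 0, 0, 0, 0, 0, 0], [0, 0, 0, 0, 0, 0, 0, 0], [0, 0, 0, 0, 0, 0, 0, 0], [0, 0, 0, 0, 0, 0, 0, 0], [0, 0, 0, 0, 0, 1, 0, 0]],
   [[0, 0, 0, 0, 0, 0, 0, 0], [0, 0, 0, 0, 0, 0, -1, 0], [0, 0, 0, 0, 0, 1, 0, 0], [0, 0, 0, 0, 0, 0, 0, 0], [0, 0, 0, 0, 0, 0, 0, 0], [0, 0, 0, 0, 0, 0, 0, 0], [0, 0, 0, 0, 0, 0, 0, 0], [0, 0, 0, 0, 0, 0, 0, 0]],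
   [[0, 1, 0, 0, 0, 0, 0, 0], [0, 0, 0, 0, 0, 0, 0, 0], [0, 0, 0, 0, 0, 0, 0, 0], [0, 0, 0, 0, 0, 0, 0, 0], [0, 0, 0, 0, 0, 0, 0, 0], [0, 0, 0, 0, -1, 0, 0, 0], [0, 0, 0, 0, 0, 0, 0, 0], [0, 0, 0, 0, 0, 0, 0, 0]],
   [[0, 0, -1, 0, 0, 0, 0, 0], [0, 0, 0, 0, 0, 0, 0, 0], [0, 0, 0, 0, 0, 0, 0, 0], [0, 0, 0, 0, 0, 0, 0, 0], [0, 0, 0, 0, 0, 0, 0, 0], [0, 0, 0, 0, 0, 0, 0, 0], [0, 0, 0, 0, 1, 0, 0, 0], [0, 0, 0, 0, 0, 0, 0, 0]],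
   [[0, 0, 0, 0, 0, 0, 0, 1], [0, 0, 0, 0, 0, 0, 0, 0], [0, 0, 0, 0, 0, 0, 0, 0], [0, 0, 0, 0, -1, 0, 0, 0], [0, 0, 0, 0, 0, 0, 0, 0], [0, 0, 0, 0, 0, 0, 0, 0], [0, 0, 0, 0, 0, 0, 0, 0], [0, 0, 0, 0, 0, 0, 0, 0]],
   [[0, 0, 0, 1, 0, 0, 0, 0], [0, 0, 0, 0, 0, 0, 0, 0], [0, 0, 0, 0, 0, 0, 0, 0], [0, 0, 0, 0, 0, 0, 0, 0], [0, 0, 0, 0, 0, 0, 0, 0], [0, 0, 0, 0, 0, 0, 0, 0], [0, 0, 0, 0, 0, 0, 0, 0], [0, 0, 0, 0, -1, 0, 0, 0]],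
   [[0, 0, 0, 0, 0, 0, 1, 0], [0, 0, 0, 0, 0, 0, 0, 0], [0, 0, 0, 0, -1, 0, 0, 0], [0, 0, 0, 0, 0, 0, 0, 0], [0, 0, 0, 0, 0, 0, 0, 0], [0, 0, 0, 0, 0, 0, 0, 0], [0, 0, 0, 0, 0, 0, 0, 0], [0, 0, 0, 0, 0, 0, 0, 0]],
   [[0, 0, 0, 0, 0, 1, 0, 0], [0, 0, 0, 0, -1, 0, 0, 0], [0, 0, 0, 0, 0, 0, 0, 0], [0, 0, 0, 0, 0, 0, 0, 0], [0, 0, 0, 0, 0, 0, 0, 0], [0, 0, 0, 0, 0, 0, 0, 0], [0, 0, 0, 0, 0, 0, 0, 0], [0, 0, 0, 0, 0, 0, 0, 0]]]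

/-- Cartan elements `h_i = [N_{p_i}, N_{-p_i}]` of type D4 (4 diagonal integer matrices). -/
def hListD4 : List (List (List ℤ)) :=
  [[[1, 0, 0, 0, 0, 0, 0, 0], [0, -1, 0, 0, 0, 0, 0, 0], [0, 0, 0, 0, 0, 0, 0, 0], [0, 0, 0, 0, 0, 0, 0, 0], [0, 0, 0, 0, -1, 0, 0, 0], [0, 0, 0, 0, 0, 1, 0, 0], [0, 0, 0, 0, 0, 0, 0, 0], [0, 0, 0, 0, 0, 0, 0, 0]],
   [[0, 0, 0, 0, 0, 0, 0, 0], [0, 1, 0, 0, 0, 0, 0, 0], [0, 0, -1, 0, 0, 0, 0, 0], [0, 0, 0, 0, 0, 0, 0, 0], [0, 0, 0, 0, 0, 0, 0, 0], [0, 0, 0, 0, 0, -1, 0, 0], [0, 0, 0, 0, 0, 0, 1, 0], [0, 0, 0, 0, 0, 0, 0, 0]],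
   [[0, 0, 0, 0, 0, 0, 0, 0], [0, 0, 0, 0, 0, 0, 0, 0], [0, 0, 1, 0, 0, 0, 0, 0], [0, 0, 0, -1, 0, 0, 0, 0], [0, 0, 0, 0, 0, 0, 0, 0], [0, 0, 0, 0, 0, 0, 0, 0], [0, 0, 0, 0, 0, 0, -1, 0], [0, 0, 0, 0, 0, 0, 0, 1]],
   [[0, 0, 0, 0, 0, 0, 0, 0], [0, 0, 0, 0, 0, 0, 0, 0], [0, 0, 1, 0, 0, 0, 0, 0], [0, 0, 0, 1, 0, 0, 0, 0], [0, 0, 0, 0, 0, 0, 0, 0], [0, 0, 0, 0, 0, 0, 0, 0], [0, 0, 0, 0, 0, 0, -1, 0], [0, 0, 0, 0, 0, 0, 0, -1]]]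

section D4
variable (K : Type u) [Field K]

/-- The root vector `N_r` over `K`. -/
def ND4 (r : ℕ) : Matrix (Fin 4 ⊕ Fin 4) (Fin 4 ⊕ Fin 4) K :=
  Matrix.of fun i j => ((tab3 nListD4 r (ix8 i) (ix8 j) : ℤ) : K)

/-- The Cartan element `h_i` over `K`. -/
def HD4 (i : ℕ) : Matrix (Fin 4 ⊕ Fin 4) (Fin 4 ⊕ Fin 4) K :=
  Matrix.of fun a c => ((tab3 hListD4 i (ix8 a) (ix8 c) : ℤ) : K)

/-- The model of the Chevalley basis: `h_{p_i} ↦ HD4 i`, `e_r ↦ ND4 r`. -/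
def bD4 : Cfsg.Lie.chevD4.Idx → Matrix (Fin 4 ⊕ Fin 4) (Fin 4 ⊕ Fin 4) K
  | Sum.inl i => HD4 K i.val
  | Sum.inr r => ND4 K r.val

/-- The root element `E_r(t) = 1 + t N_r` as a matrix. -/
def ED4mat (r : ℕ) (t : K) : Matrix (Fin 4 ⊕ Fin 4) (Fin 4 ⊕ Fin 4) K := 1 + t • ND4 K r

/-- The root element `E_r(t)` as an element of `GL` (`1` if the matrix were not invertible;
package [UNIT-D4] says it is). -/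
noncomputable def ED4 (r : Fin Cfsg.Lie.chevD4.nroots) (t : K) : GL (Fin 4 ⊕ Fin 4) K := by
  classical
  exact if h : IsUnit (ED4mat K r.val t) then h.unit else 1

/-- The group `R` generated by the root elements. -/
noncomputable def RD4 : Subgroup (GL (Fin 4 ⊕ Fin 4) K) :=
  Subgroup.closure (Set.range fun p : Fin Cfsg.Lie.chevD4.nroots × K => ED4 K p.1 p.2)

/-- The "block-monomial" isometries: all entries off the diagonal vanish, except inside the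
`2 × 2` block of `e4, f4`. -/
def DgD4 : Set (GL (Fin 4 ⊕ Fin 4) K) :=
  {d | d ∈ Cfsg.isometryGroup K (Cfsg.quadFormPlus 4 K) ∧
    ∀ i j : Fin 4 ⊕ Fin 4, i ≠ j → ¬ ((i = Sum.inl 3 ∨ i = Sum.inr 3) ∧
      (j = Sum.inl 3 ∨ j = Sum.inr 3)) → (d : Matrix (Fin 4 ⊕ Fin 4) (Fin 4 ⊕ Fin 4) K) i j = 0}

end D4

/-! ## Type B2

Roots (Prelude index `r`; `eps` = coordinates in `ε_1, ε_2`; the short roots are 1, 2, 5, 6;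
`E_r(t) = 1 + t N_r + t^2 M_r` with `M_r = N_r^2 / 2`):

```
  r =  0 : eps (-1, -1) : N = -1*E[f1,e2] +1*E[f2,e1]
  r =  1 : eps (-1, 0) : N = +1*E[e0,e1] -2*E[f1,e0] ; M = -1*E[f1,e1]
  r =  2 : eps (0, -1) : N = +1*E[e0,e2] -2*E[f2,e0] ; M = -1*E[f2,e2]
  r =  3 : eps (-1, 1) : N = +1*E[e2,e1] -1*E[f1,f2]
  r =  4 : eps (1, -1) : N = +1*E[e1,e2] -1*E[f2,f1]
  r =  5 : eps (0, 1) : N = -1*E[e0,f2] +2*E[e2,e0] ; M = -1*E[e2,f2]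
  r =  6 : eps (1, 0) : N = -1*E[e0,f1] +2*E[e1,e0] ; M = -1*E[e1,f1]
  r =  7 : eps (1, 1) : N = +1*E[e1,f2] -1*E[e2,f1]
  h_0 = diag(0, 0, 2, 0, -2)
  h_1 = diag(0, 1, -1, -1, 1)
```
-/

/-- Root vectors `N_r` of type B2 (8 integer 5 × 5 matrices). -/
def nListB2 : List (List (List ℤ)) :=
  [[[0, 0, 0, 0, 0], [0, 0, 0, 0, 0], [0, 0, 0, 0, 0], [0, 0, -1, 0, 0], [0, 1, 0, 0, 0]],
   [[0, 1, 0, 0, 0], [0, 0, 0, 0, 0], [0, 0, 0, 0, 0], [-2, 0, 0, 0, 0], [0, 0, 0, 0, 0]],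
   [[0, 0, 1, 0, 0], [0, 0, 0, 0, 0], [0, 0, 0, 0, 0], [0, 0, 0, 0, 0], [-2, 0, 0, 0, 0]],
   [[0, 0, 0, 0, 0], [0, 0, 0, 0, 0], [0, 1, 0, 0, 0], [0, 0, 0, 0, -1], [0, 0, 0, 0, 0]],
   [[0, 0, 0, 0, 0], [0, 0, 1, 0, 0], [0, 0, 0, 0, 0], [0, 0, 0, 0, 0], [0, 0, 0, -1, 0]],
   [[0, 0, 0, 0, -1], [0, 0, 0, 0, 0], [2, 0, 0, 0, 0], [0, 0, 0, 0, 0], [0, 0, 0, 0, 0]],
   [[0, 0, 0, -1, 0], [2, 0, 0, 0, 0], [0, 0, 0, 0, 0], [0, 0, 0, 0, 0], [0, 0, 0, 0, 0]],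
   [[0, 0, 0, 0, 0], [0, 0, 0, 0, 1], [0, 0, 0, -1, 0], [0, 0, 0, 0, 0], [0, 0, 0, 0, 0]]]

/-- The matrices `M_r = N_r^2 / 2` of type B2. -/
def mListB2 : List (List (List ℤ)) :=
  [[[0, 0, 0, 0, 0], [0, 0, 0, 0, 0], [0, 0, 0, 0, 0], [0, 0, 0, 0, 0], [0, 0, 0, 0, 0]],
   [[0, 0, 0, 0, 0], [0, 0, 0, 0, 0], [0, 0, 0, 0, 0], [0, -1, 0, 0, 0], [0, 0, 0, 0, 0]],
   [[0, 0, 0, 0, 0], [0, 0, 0, 0, 0], [0, 0, 0, 0, 0], [0, 0, 0, 0, 0], [0, 0, -1, 0, 0]],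
   [[0, 0, 0, 0, 0], [0, 0, 0, 0, 0], [0, 0, 0, 0, 0], [0, 0, 0, 0, 0], [0, 0, 0, 0, 0]],
   [[0, 0, 0, 0, 0], [0, 0, 0, 0, 0], [0, 0, 0, 0, 0], [0, 0, 0, 0, 0], [0, 0, 0, 0, 0]],
   [[0, 0, 0, 0, 0], [0, 0, 0, 0, 0], [0, 0, 0, 0, -1], [0, 0, 0, 0, 0], [0, 0, 0, 0, 0]],
   [[0, 0, 0, 0, 0], [0, 0, 0, -1, 0], [0, 0, 0, 0, 0], [0, 0, 0, 0, 0], [0, 0, 0, 0, 0]],
   [[0, 0, 0, 0, 0], [0, 0, 0, 0, 0], [0, 0, 0, 0, 0], [0, 0, 0, 0, 0], [0, 0, 0, 0, 0]]]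

/-- Cartan elements `h_i = [N_{p_i}, N_{-p_i}]` of type B2. -/
def hListB2 : List (List (List ℤ)) :=
  [[[0, 0, 0, 0, 0], [0, 0, 0, 0, 0], [0, 0, 2, 0, 0], [0, 0, 0, 0, 0], [0, 0, 0, 0, -2]],
   [[0, 0, 0, 0, 0], [0, 1, 0, 0, 0], [0, 0, -1, 0, 0], [0, 0, 0, -1, 0], [0, 0, 0, 0, 1]]]

section B2
variable (K : Type u) [Field K]

/-- The root vector `N_r` over `K`. -/
def NB2 (r : ℕ) : Matrix (Unit ⊕ (Fin 2 ⊕ Fin 2)) (Unit ⊕ (Fin 2 ⊕ Fin 2)) K :=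
  Matrix.of fun i j => ((tab3 nListB2 r (ix5 i) (ix5 j) : ℤ) : K)

/-- The matrix `M_r` over `K`. -/
def MB2 (r : ℕ) : Matrix (Unit ⊕ (Fin 2 ⊕ Fin 2)) (Unit ⊕ (Fin 2 ⊕ Fin 2)) K :=
  Matrix.of fun i j => ((tab3 mListB2 r (ix5 i) (ix5 j) : ℤ) : K)

/-- The Cartan element `h_i` over `K`. -/
def HB2 (i : ℕ) : Matrix (Unit ⊕ (Fin 2 ⊕ Fin 2)) (Unit ⊕ (Fin 2 ⊕ Fin 2)) K :=
  Matrix.of fun a c => ((tab3 hListB2 i (ix5 a) (ix5 c) : ℤ) : K)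

/-- The model of the Chevalley basis: `h_{p_i} ↦ HB2 i`, `e_r ↦ NB2 r`. -/
def bB2 : Cfsg.Lie.chevB2.Idx → Matrix (Unit ⊕ (Fin 2 ⊕ Fin 2)) (Unit ⊕ (Fin 2 ⊕ Fin 2)) K
  | Sum.inl i => HB2 K i.val
  | Sum.inr r => NB2 K r.val

/-- The root element `E_r(t) = 1 + t N_r + t^2 M_r` as a matrix. -/
def EB2mat (r : ℕ) (t : K) : Matrix (Unit ⊕ (Fin 2 ⊕ Fin 2)) (Unit ⊕ (Fin 2 ⊕ Fin 2)) K :=
  1 + t • NB2 K r + t ^ 2 • MB2 K r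

/-- The root element `E_r(t)` as an element of `GL`. -/
noncomputable def EB2 (r : Fin Cfsg.Lie.chevB2.nroots) (t : K) :
    GL (Unit ⊕ (Fin 2 ⊕ Fin 2)) K := by
  classical
  exact if h : IsUnit (EB2mat K r.val t) then h.unit else 1

/-- The group `R` generated by the root elements. -/
noncomputable def RB2 : Subgroup (GL (Unit ⊕ (Fin 2 ⊕ Fin 2)) K) :=
  Subgroup.closure (Set.range fun p : Fin Cfsg.Lie.chevB2.nroots × K => EB2 K p.1 p.2)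

/-- The diagonal isometries. -/
def DgB2 : Set (GL (Unit ⊕ (Fin 2 ⊕ Fin 2)) K) :=
  {d | d ∈ Cfsg.isometryGroup K (Cfsg.quadFormOdd 2 K) ∧
    ∀ i j : Unit ⊕ (Fin 2 ⊕ Fin 2), i ≠ j →
      (d : Matrix (Unit ⊕ (Fin 2 ⊕ Fin 2)) (Unit ⊕ (Fin 2 ⊕ Fin 2)) K) i j = 0}

end B2

/-! ## Packages -/

/-- [XGL] the matrices `x_r(t)` of the Chevalley group are invertible. -/
def PkgXGL (D : Cfsg.Lie.ChevalleyDatum) : Prop :=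
  ∀ (K : Type u) [Field K] (r : Fin D.nroots) (t : K),
    ∃ g : GL D.Idx K, (g : Matrix D.Idx D.Idx K) = D.xMat K r t

/-- [UNIT-D4] the model root elements are invertible. -/
def PkgUnitD4 : Prop :=
  ∀ (K : Type u) [Field K] (r : ℕ) (t : K), r < 24 → IsUnit (ED4mat K r t)

/-- [UNIT-B2] -/
def PkgUnitB2 : Prop :=
  ∀ (K : Type u) [Field K] (r : ℕ) (t : K), r < 8 → IsUnit (EB2mat K r t)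

/-- [EQUIV-D4-r] conjugation by `E_r(t)` on the model Lie algebra is given by `xMat r t`
(one package for each root index `r < 24`). -/
def PkgEquivD4At (r : ℕ) : Prop :=
  ∀ (K : Type u) [Field K] (hr : r < Cfsg.Lie.chevD4.nroots) (t : K) (I : Cfsg.Lie.chevD4.Idx),
    ED4mat K r t * bD4 K I =
      (∑ J, Cfsg.Lie.chevD4.xMat K ⟨r, hr⟩ t J I • bD4 K J) * ED4mat K r t

/-- [EQUIV-B2-r] (one package for each root index `r < 8`). -/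
def PkgEquivB2At (r : ℕ) : Prop :=
  ∀ (K : Type u) [Field K] (hr : r < Cfsg.Lie.chevB2.nroots) (t : K) (I : Cfsg.Lie.chevB2.Idx),
    EB2mat K r t * bB2 K I =
      (∑ J, Cfsg.Lie.chevB2.xMat K ⟨r, hr⟩ t J I • bB2 K J) * EB2mat K r t

/-- [CENT-D4] a matrix commuting with the model Lie algebra commutes with the root elements
(trivial: `E_r(t) = 1 + t N_r`). -/
def PkgCentD4 : Prop :=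
  ∀ (K : Type u) [Field K] (g : Matrix (Fin 4 ⊕ Fin 4) (Fin 4 ⊕ Fin 4) K),
    (∀ I, g * bD4 K I = bD4 K I * g) → ∀ (r : ℕ) (t : K), r < 24 →
      g * ED4mat K r t = ED4mat K r t * g

/-- [CENT-B2] (`M_1 = N_0 N_3`, `M_2 = - N_0 N_4`, `M_5 = - N_3 N_7`, `M_6 = N_4 N_7`,
`M_r = 0` for the long roots `r = 0, 3, 4, 7`). -/
def PkgCentB2 : Prop :=
  ∀ (K : Type u) [Field K]
    (g : Matrix (Unit ⊕ (Fin 2 ⊕ Fin 2)) (Unit ⊕ (Fin 2 ⊕ Fin 2)) K),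
    (∀ I, g * bB2 K I = bB2 K I * g) → ∀ (r : ℕ) (t : K), r < 8 →
      g * EB2mat K r t = EB2mat K r t * g

/-- [NONAB-D4] (`r = 0`, `s = 14`, `t = u = 1`). -/
def PkgNonabD4 : Prop :=
  ∀ (K : Type u) [Field K], ∃ (r s : ℕ) (t u : K), r < 24 ∧ s < 24 ∧
    ED4mat K r t * ED4mat K s u ≠ ED4mat K s u * ED4mat K r t

/-- [NONAB-B2] (`r = 0`, `s = 5`, `t = u = 1`). -/
def PkgNonabB2 : Prop :=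
  ∀ (K : Type u) [Field K], ∃ (r s : ℕ) (t u : K), r < 8 ∧ s < 8 ∧
    EB2mat K r t * EB2mat K s u ≠ EB2mat K s u * EB2mat K r t

/-- [ISO-D4] the root elements are isometries of `Σ x_i y_i`. -/
def PkgIsoD4 : Prop :=
  ∀ (K : Type u) [Field K] (r : ℕ) (t : K), r < 24 → ∀ v : Fin 4 ⊕ Fin 4 → K,
    Cfsg.quadFormPlus 4 K (ED4mat K r t *ᵥ v) = Cfsg.quadFormPlus 4 K v

/-- [ISO-B2] the root elements are isometries of `x_0^2 + x_1 y_1 + x_2 y_2`. -/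
def PkgIsoB2 : Prop :=
  ∀ (K : Type u) [Field K] (r : ℕ) (t : K), r < 8 → ∀ v : Unit ⊕ (Fin 2 ⊕ Fin 2) → K,
    Cfsg.quadFormOdd 2 K (EB2mat K r t *ᵥ v) = Cfsg.quadFormOdd 2 K v

/-- [IN-D4] the root elements lie in `Ω` (each is a commutator of two root elements). -/
def PkgInD4 : Prop :=
  ∀ (K : Type u) [Field K] (r : Fin Cfsg.Lie.chevD4.nroots) (t : K),
    ED4 K r t ∈ Cfsg.Geo.omegaGL (Cfsg.quadFormPlus 4 K)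

/-- [IN-B2] the root elements lie in `Ω` when `K` has more than two elements (commutator with
a diagonal isometry). -/
def PkgInB2 : Prop :=
  ∀ (K : Type u) [Field K], (∃ a : K, a ≠ 0 ∧ a ≠ 1) → ∀ (r : Fin Cfsg.Lie.chevB2.nroots) (t : K),
    EB2 K r t ∈ Cfsg.Geo.omegaGL (Cfsg.quadFormOdd 2 K)

/-- [RED-D4] every isometry is `ρ * d`, `ρ ∈ R`, `d` block-monomial. -/
def PkgRedD4 : Prop :=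
  ∀ (K : Type u) [Field K], ∀ g ∈ Cfsg.isometryGroup K (Cfsg.quadFormPlus 4 K),
    ∃ ρ ∈ RD4 K, ∃ d ∈ DgD4 K, g = ρ * d

/-- [RED-B2] every isometry is `ρ * d`, `ρ ∈ R`, `d` diagonal. -/
def PkgRedB2 : Prop :=
  ∀ (K : Type u) [Field K], ∀ g ∈ Cfsg.isometryGroup K (Cfsg.quadFormOdd 2 K),
    ∃ ρ ∈ RB2 K, ∃ d ∈ DgB2 K, g = ρ * d

/-- [NORM-D4] block-monomial isometries normalize `R`. -/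
def PkgNormD4 : Prop :=
  ∀ (K : Type u) [Field K], ∀ d ∈ DgD4 K, ∀ (r : Fin Cfsg.Lie.chevD4.nroots) (t : K),
    d * ED4 K r t * d⁻¹ ∈ RD4 K

/-- [NORM-B2] diagonal isometries normalize `R`. -/
def PkgNormB2 : Prop :=
  ∀ (K : Type u) [Field K], ∀ d ∈ DgB2 K, ∀ (r : Fin Cfsg.Lie.chevB2.nroots) (t : K),
    d * EB2 K r t * d⁻¹ ∈ RB2 K

/-- [COMM-D4] commutators of block-monomial isometries lie in `R`. -/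
def PkgCommD4 : Prop :=
  ∀ (K : Type u) [Field K], ∀ d₁ ∈ DgD4 K, ∀ d₂ ∈ DgD4 K, d₁ * d₂ * d₁⁻¹ * d₂⁻¹ ∈ RD4 K

/-- [COMM-B2] commutators of diagonal isometries lie in `R` (they are trivial). -/
def PkgCommB2 : Prop :=
  ∀ (K : Type u) [Field K], ∀ d₁ ∈ DgB2 K, ∀ d₂ ∈ DgB2 K, d₁ * d₂ * d₁⁻¹ * d₂⁻¹ ∈ RB2 K

end Cfsg.Agent.Lib.Helper99.CHO
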